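import Mathlib
import Cfsg.Agent.H364.Core
import Cfsg.Agent.H537.CopDefs

/-!
# Groups with the order and the class sizes of a group with an isolated prime (helper326, S3677)

`SC p S` : the elements of order `p` of `S` have centralizer of order `p`. If `G` has the order and the class sizes of `S`
and `p` divides the order then `G` has no element of order `p * t`, `t ≠ p`.
-/

set_option autoImplicit false

namespace Cfsg.Agent.H326.CS

open Subgroup Cfsg.Agent.H364 Cfsg.Agent.H537.Cop

universe u v

/-- the class sizes of the two groups agree -/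
def SameCS (G : Type u) [Group G] (S : Type v) [Group S] : Prop :=
  Set.range (fun g : G => (centralizer ({g} : Set G)).index) = Set.range (fun g : S => (centralizer ({g} : Set S)).index)

section

variable {G : Type u} [Group G] [Finite G] {S : Type v} [Group S] [Finite S]

theorem exists_cent (hcard : Nat.card G = Nat.card S) (hcs : SameCS G S) (g : G) :
    ∃ s : S, Nat.card (centralizer ({s} : Set S)) = Nat.card (centralizer ({g} : Set G)) := by
  have h1 : (centralizer ({g} : Set G)).index ∈ Set.range (fun g : S => (centralizer ({g} : Set S)).index) := by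
    rw [← hcs]; exact ⟨g, rfl⟩
  obtain ⟨s, hs⟩ := h1
  refine ⟨s, ?_⟩
  have hs' : (centralizer ({s} : Set S)).index = (centralizer ({g} : Set G)).index := hs
  have h2 := (centralizer ({g} : Set G)).card_mul_index
  have h3 := (centralizer ({s} : Set S)).card_mul_index
  rw [hs', ← hcard, ← h2] at h3
  exact Nat.eq_of_mul_eq_mul_right (Nat.pos_of_ne_zero index_ne_zero_of_finite) h3

theorem SameCS.symm (h : SameCS G S) : SameCS S G := Eq.symm h

theorem mem_cent_self {K : Type*} [Group K] (x : K) : x ∈ centralizer ({x} : Set K) :=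
  mem_centralizer_singleton_iff.2 rfl

theorem orderOf_dvd_cent {K : Type*} [Group K] {x y : K} (h : y * x = x * y) :
    orderOf y ∣ Nat.card (centralizer ({x} : Set K)) :=
  Subgroup.orderOf_dvd_natCard _ (mem_centralizer_singleton_iff.2 h)

/-- a centralizer of order `p` containing an element of order `p` -/
theorem mem_zpowers_of_card {K : Type*} [Group K] [Finite K] {x y z : K} {p : ℕ} (hp : p.Prime)
    (hC : Nat.card (centralizer ({x} : Set K)) = p) (hy : orderOf y = p) (hyx : y ∈ centralizer ({x} : Set K))
    (hz : z ∈ centralizer ({x} : Set K)) : z ∈ zpowers y := by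
  have h1 : zpowers y ≤ centralizer ({x} : Set K) := by
    rw [zpowers_le]; exact hyx
  have h2 : zpowers y = centralizer ({x} : Set K) :=
    Subgroup.eq_of_le_of_card_ge h1 (by rw [hC, Nat.card_zpowers, hy])
  rw [h2]; exact hz

/-- **No edges at an isolated prime.** -/
theorem noEdge (hcard : Nat.card G = Nat.card S) (hcs : SameCS G S) {p : ℕ} (hp : p.Prime) (hpS : p ∣ Nat.card S)
    (h : SC p S) {t : ℕ} (ht : t.Prime) (htp : t ≠ p) : NoEdge G p t := by
  intro x hx
  have := Fact.mk hp
  obtain ⟨y₀, hy₀⟩ := exists_prime_orderOf_dvd_card' p hpS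
  obtain ⟨g₀, hg₀⟩ := exists_cent hcard.symm hcs.symm y₀
  rw [h y₀ hy₀] at hg₀
  -- an element of order `p` whose centralizer is divisible by `p t`
  set y := x ^ t with hy
  have hyp : orderOf y = p := by
    rw [hy, orderOf_pow_of_dvd ht.ne_zero (by rw [hx]; exact Dvd.intro_left _ rfl), hx,
      Nat.mul_div_cancel _ ht.pos]
  have hpt : p * t ∣ Nat.card (centralizer ({y} : Set G)) := by
    rw [← hx]
    exact orderOf_dvd_cent ((Commute.refl x).pow_right t).eq
  obtain ⟨s, hs⟩ := exists_cent hcard hcs y
  rw [← hs] at hpt
  by_cases hs1 : s = 1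
  · -- then `y` is central
    subst hs1
    have h1 : Nat.card (centralizer ({(1 : S)} : Set S)) = Nat.card S := by
      have : centralizer ({(1 : S)} : Set S) = ⊤ := by
        rw [eq_top_iff]
        intro a _
        exact mem_centralizer_singleton_iff.2 (by simp)
      rw [this, Subgroup.card_top]
    rw [h1, ← hcard] at hs
    have h2 : centralizer ({y} : Set G) = ⊤ := Subgroup.eq_top_of_card_eq _ hs.symm
    have hyc : ∀ a : G, a * y = y * a := fun a => mem_centralizer_singleton_iff.1 (h2 ▸ mem_top a)
    have h3 : g₀ ∈ zpowers y :=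
      mem_zpowers_of_card hp hg₀ hyp (mem_centralizer_singleton_iff.2 (hyc g₀).symm) (mem_cent_self g₀)
    obtain ⟨k, hk⟩ := mem_zpowers_iff.1 h3
    have h4 : centralizer ({g₀} : Set G) = ⊤ := by
      rw [eq_top_iff]
      intro a _
      rw [mem_centralizer_singleton_iff, ← hk]
      exact (show Commute a y from hyc a).zpow_right k
    rw [h4, Subgroup.card_top] at hg₀
    rw [h1, ← hcard, hg₀] at hpt
    have h5 := Nat.le_of_dvd hp.pos hpt
    have h6 := ht.two_le
    have h7 := hp.pos
    nlinarith
  · -- `s` has order `p`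
    have hpC : p ∣ Nat.card (centralizer ({s} : Set S)) := (Dvd.intro _ rfl).trans hpt
    obtain ⟨⟨z, hz⟩, hzp⟩ := exists_prime_orderOf_dvd_card' p hpC
    rw [Subgroup.orderOf_mk] at hzp
    have hzs : z * s = s * z := mem_centralizer_singleton_iff.1 hz
    have h1 : s ∈ zpowers z :=
      mem_zpowers_of_card hp (h z hzp) hzp (mem_cent_self z) (mem_centralizer_singleton_iff.2 hzs.symm)
    have h2 : orderOf s = p := by
      have h3 : orderOf s ∣ p := by
        rw [← hzp]
        exact orderOf_dvd_of_mem_zpowers h1
      rcases (Nat.dvd_prime hp).1 h3 with h4 | h4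
      · exact absurd (orderOf_eq_one_iff.1 h4) hs1
      · exact h4
    rw [h s h2] at hpt
    have h5 := Nat.le_of_dvd hp.pos hpt
    have h6 := ht.two_le
    have h7 := hp.pos
    nlinarith

end

end Cfsg.Agent.H326.CS
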